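import Mathlib
import Cfsg.Prelude.Def_Transfer
import Cfsg.Agent.Lib.Helper54.Coprime
import Cfsg.Agent.S0611

/-!
Lead library: generic in-group lemmas for the "pair of transvection groups" analysis
(KS 9.3.4).
-/

set_option autoImplicit false
open Cfsg
open scoped commutatorElement

namespace Cfsg.Agent.Lib.Lead.Offender

variable {G : Type*} [Group G]

/-- The subgroup of elements `e` normalizing `V` and `X` with `[V, e] ⊆ X`. -/
def commInto (V X : Subgroup G) : Subgroup G where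
  carrier := {e | e ∈ Subgroup.normalizer (V : Set G) ∧ e ∈ Subgroup.normalizer (X : Set G) ∧
    ∀ v ∈ V, ⁅v, e⁆ ∈ X}
  one_mem' := by
    refine ⟨Subgroup.one_mem _, Subgroup.one_mem _, ?_⟩
    intro v _
    simp
  mul_mem' := by
    rintro e₁ e₂ ⟨h1V, h1X, h1⟩ ⟨h2V, h2X, h2⟩
    refine ⟨Subgroup.mul_mem _ h1V h2V, Subgroup.mul_mem _ h1X h2X, ?_⟩
    intro v hv
    have h3 : ⁅v, e₁ * e₂⁆ = ⁅v, e₁⁆ * (e₁ * ⁅v, e₂⁆ * e₁⁻¹) := by
      rw [commutatorElement_def, commutatorElement_def, commutatorElement_def]; group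
    rw [h3]
    exact X.mul_mem (h1 v hv) ((Subgroup.mem_normalizer_iff.mp h1X _).mp (h2 v hv))
  inv_mem' := by
    rintro e ⟨hV, hX, h⟩
    refine ⟨Subgroup.inv_mem _ hV, Subgroup.inv_mem _ hX, ?_⟩
    intro v hv
    have h3 : ⁅v, e⁻¹⁆ = e⁻¹ * (⁅v, e⁆)⁻¹ * e⁻¹⁻¹ := by
      rw [commutatorElement_def, commutatorElement_def]; group
    rw [h3]
    exact (Subgroup.mem_normalizer_iff.mp (Subgroup.inv_mem _ hX) _).mp (X.inv_mem (h v hv))

theorem commutator_le_of_le_commInto {V X E : Subgroup G} (h : E ≤ commInto V X) :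
    ⁅V, E⁆ ≤ X := by
  rw [Subgroup.commutator_le]
  intro v hv e he
  exact (h he).2.2 v hv

/-- `[V, A ⊔ B] = [V, A] ⊔ [V, B]` for an abelian `V` normalized by `A` and `B`. -/
theorem commutator_sup_eq {V A B : Subgroup G}
    (hA : A ≤ Subgroup.normalizer (V : Set G)) (hB : B ≤ Subgroup.normalizer (V : Set G)) :
    ⁅V, A ⊔ B⁆ = ⁅V, A⁆ ⊔ ⁅V, B⁆ := by
  apply le_antisymm
  · apply commutator_le_of_le_commInto
    have hXV : ⁅V, A⁆ ⊔ ⁅V, B⁆ ≤ V := by
      apply sup_le
      · rw [Subgroup.commutator_le]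
        intro v hv a ha
        exact Cfsg.Agent.S0611.comm_mem_of_mem_normalizer (hA ha) hv
      · rw [Subgroup.commutator_le]
        intro v hv b hb
        exact Cfsg.Agent.S0611.comm_mem_of_mem_normalizer (hB hb) hv
    -- an element `e` normalizing `V` with `[V, e] ⊆ X ≤ V` normalizes `X`
    have key : ∀ e, e ∈ Subgroup.normalizer (V : Set G) →
        (∀ v ∈ V, ⁅v, e⁆ ∈ ⁅V, A⁆ ⊔ ⁅V, B⁆) → e ∈ commInto V (⁅V, A⁆ ⊔ ⁅V, B⁆) := by
      intro e heV he
      refine ⟨heV, ?_, he⟩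
      have hconj : ∀ e', e' ∈ Subgroup.normalizer (V : Set G) →
          (∀ v ∈ V, ⁅v, e'⁆ ∈ ⁅V, A⁆ ⊔ ⁅V, B⁆) →
          ∀ w ∈ ⁅V, A⁆ ⊔ ⁅V, B⁆, e' * w * e'⁻¹ ∈ ⁅V, A⁆ ⊔ ⁅V, B⁆ := by
        intro e' he'V he' w hw
        have h1 : e' * w * e'⁻¹ = (⁅w, e'⁆)⁻¹ * w := by
          rw [commutatorElement_def]; group
        rw [h1]
        exact Subgroup.mul_mem _ (Subgroup.inv_mem _ (he' w (hXV hw))) hw
      rw [Subgroup.mem_normalizer_iff]
      intro w
      constructor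
      · exact hconj e heV he w
      · intro hw
        have heinv : ∀ v ∈ V, ⁅v, e⁻¹⁆ ∈ ⁅V, A⁆ ⊔ ⁅V, B⁆ := by
          intro v hv
          have h3 : ⁅v, e⁻¹⁆ = (⁅e⁻¹ * v * e⁻¹⁻¹, e⁆)⁻¹ := by
            rw [commutatorElement_def, commutatorElement_def]; group
          rw [h3]
          apply Subgroup.inv_mem
          apply he
          exact Cfsg.Agent.S0611.conj_mem_of_mem_normalizer (Subgroup.inv_mem _ heV) hv
        have := hconj e⁻¹ (Subgroup.inv_mem _ heV) heinv _ hw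
        have h4 : e⁻¹ * (e * w * e⁻¹) * e⁻¹⁻¹ = w := by group
        rwa [h4] at this
    apply sup_le
    · intro a ha
      apply key a (hA ha)
      intro v hv
      exact Subgroup.mem_sup_left (Subgroup.commutator_mem_commutator hv ha)
    · intro b hb
      apply key b (hB hb)
      intro v hv
      exact Subgroup.mem_sup_right (Subgroup.commutator_mem_commutator hv hb)
  · exact sup_le (Subgroup.commutator_mono le_rfl le_sup_left)
      (Subgroup.commutator_mono le_rfl le_sup_right)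

/-- An element acting trivially on `W` and on `V / W` (with `W ≤ V` of exponent `p`, `V` abelian)
has its `p`-th power centralizing `V`. -/
theorem pow_mem_centralizer_of_stabilizes {p : ℕ} {V W : Subgroup G} {c : G}
    (hWp : ∀ w ∈ W, w ^ p = 1)
    (hcW : c ∈ Subgroup.centralizer (W : Set G)) (hc : ∀ v ∈ V, ⁅c, v⁆ ∈ W) :
    c ^ p ∈ Subgroup.centralizer (V : Set G) := by
  rw [Subgroup.mem_centralizer_iff]
  intro v hv
  have hw := hc v hv
  have hcomm : c * ⁅c, v⁆ = ⁅c, v⁆ * c := ((Subgroup.mem_centralizer_iff.mp hcW) _ hw).symm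
  have key : ∀ k : ℕ, c ^ k * v = ⁅c, v⁆ ^ k * v * c ^ k := by
    intro k
    induction k with
    | zero => simp
    | succ k ih =>
      have hck : c ^ k * ⁅c, v⁆ = ⁅c, v⁆ * c ^ k := ((Commute.pow_left (show Commute c ⁅c, v⁆ from hcomm) k).eq)
      have hcv : c * v = ⁅c, v⁆ * v * c := by rw [commutatorElement_def]; group
      calc c ^ (k + 1) * v = c ^ k * (c * v) := by rw [pow_succ]; group
        _ = c ^ k * (⁅c, v⁆ * v * c) := by rw [hcv]
        _ = (c ^ k * ⁅c, v⁆) * v * c := by group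
        _ = (⁅c, v⁆ * c ^ k) * v * c := by rw [hck]
        _ = ⁅c, v⁆ * (c ^ k * v) * c := by group
        _ = ⁅c, v⁆ * (⁅c, v⁆ ^ k * v * c ^ k) * c := by rw [ih]
        _ = ⁅c, v⁆ ^ (k + 1) * v * c ^ (k + 1) := by rw [pow_succ', pow_succ]; group
  have := key p
  rw [hWp _ hw, one_mul] at this
  exact this.symm

theorem normalizer_le_normalizer_centralizer (W : Subgroup G) :
    Subgroup.normalizer (W : Set G) ≤
      Subgroup.normalizer ((Subgroup.centralizer (W : Set G) : Subgroup G) : Set G) := by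
  have key : ∀ e, e ∈ Subgroup.normalizer (W : Set G) →
      ∀ c ∈ Subgroup.centralizer (W : Set G), e * c * e⁻¹ ∈ Subgroup.centralizer (W : Set G) := by
    intro e he c hc
    rw [Subgroup.mem_centralizer_iff] at hc ⊢
    intro w hw
    have hw' : e⁻¹ * w * e⁻¹⁻¹ ∈ W :=
      (Subgroup.mem_normalizer_iff.mp (Subgroup.inv_mem _ he) w).mp hw
    have h1 := hc _ hw'
    calc w * (e * c * e⁻¹) = e * ((e⁻¹ * w * e⁻¹⁻¹) * c) * e⁻¹ := by group
      _ = e * (c * (e⁻¹ * w * e⁻¹⁻¹)) * e⁻¹ := by rw [h1]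
      _ = e * c * e⁻¹ * w := by group
  intro e he
  rw [Subgroup.mem_normalizer_iff]
  intro c
  constructor
  · exact key e he c
  · intro h
    have := key e⁻¹ (Subgroup.inv_mem _ he) _ h
    have h4 : e⁻¹ * (e * c * e⁻¹) * e⁻¹⁻¹ = c := by group
    rwa [h4] at this

end Cfsg.Agent.Lib.Lead.Offender
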