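import Mathlib

/-!
Lead library: elementary facts on `SL₂(𝔽_p)`: generation by an upper and a lower transvection,
and `u 1 ∈ N` for every normal subgroup with abelian quotient when `p ≥ 5`.
-/

set_option autoImplicit false
set_option linter.unusedSectionVars false

namespace Cfsg.Agent.Lib.Lead.Offender

open Matrix
open scoped commutatorElement

variable {p : ℕ} [Fact p.Prime]

/-- Upper transvection. -/
def uMat (x : ZMod p) : Matrix.SpecialLinearGroup (Fin 2) (ZMod p) :=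
  ⟨!![1, x; 0, 1], by simp [Matrix.det_fin_two]⟩

/-- Lower transvection. -/
def lMat (y : ZMod p) : Matrix.SpecialLinearGroup (Fin 2) (ZMod p) :=
  ⟨!![1, 0; y, 1], by simp [Matrix.det_fin_two]⟩

@[simp] theorem uMat_val (x : ZMod p) :
    ((uMat x : Matrix.SpecialLinearGroup (Fin 2) (ZMod p)) : Matrix (Fin 2) (Fin 2) (ZMod p))
      = !![1, x; 0, 1] := rfl

@[simp] theorem lMat_val (x : ZMod p) :
    ((lMat x : Matrix.SpecialLinearGroup (Fin 2) (ZMod p)) : Matrix (Fin 2) (Fin 2) (ZMod p))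
      = !![1, 0; x, 1] := rfl

theorem sl2_ext {A B : Matrix.SpecialLinearGroup (Fin 2) (ZMod p)}
    (h : (A : Matrix (Fin 2) (Fin 2) (ZMod p)) = B) : A = B := Subtype.ext h

theorem sl2_eta (g : Matrix.SpecialLinearGroup (Fin 2) (ZMod p)) :
    (g : Matrix (Fin 2) (Fin 2) (ZMod p)) = !![(g : Matrix (Fin 2) (Fin 2) (ZMod p)) 0 0,
      (g : Matrix (Fin 2) (Fin 2) (ZMod p)) 0 1; (g : Matrix (Fin 2) (Fin 2) (ZMod p)) 1 0,
      (g : Matrix (Fin 2) (Fin 2) (ZMod p)) 1 1] :=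
  Matrix.eta_fin_two _

theorem uMat_mul (x y : ZMod p) : uMat x * uMat y = uMat (x + y) := by
  apply sl2_ext
  rw [Matrix.SpecialLinearGroup.coe_mul, uMat_val, uMat_val, uMat_val, Matrix.mul_fin_two]
  simp [add_comm]

theorem lMat_mul (x y : ZMod p) : lMat x * lMat y = lMat (x + y) := by
  apply sl2_ext
  rw [Matrix.SpecialLinearGroup.coe_mul, lMat_val, lMat_val, lMat_val, Matrix.mul_fin_two]
  simp [add_comm]

theorem uMat_zero : uMat (0 : ZMod p) = 1 := by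
  apply sl2_ext
  rw [Matrix.SpecialLinearGroup.coe_one, uMat_val, Matrix.one_fin_two]

theorem lMat_zero : lMat (0 : ZMod p) = 1 := by
  apply sl2_ext
  rw [Matrix.SpecialLinearGroup.coe_one, lMat_val, Matrix.one_fin_two]

theorem uMat_pow (x : ZMod p) (k : ℕ) : uMat x ^ k = uMat ((k : ZMod p) * x) := by
  induction k with
  | zero => simp [uMat_zero]
  | succ k ih => rw [pow_succ, ih, uMat_mul]; congr 1; push_cast; ring

theorem lMat_pow (x : ZMod p) (k : ℕ) : lMat x ^ k = lMat ((k : ZMod p) * x) := by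
  induction k with
  | zero => simp [lMat_zero]
  | succ k ih => rw [pow_succ, ih, lMat_mul]; congr 1; push_cast; ring

theorem uMat_inv (x : ZMod p) : (uMat x)⁻¹ = uMat (-x) := by
  rw [inv_eq_iff_mul_eq_one, uMat_mul, add_neg_cancel, uMat_zero]

theorem lMat_inv (x : ZMod p) : (lMat x)⁻¹ = lMat (-x) := by
  rw [inv_eq_iff_mul_eq_one, lMat_mul, add_neg_cancel, lMat_zero]

theorem uMat_mem_closure (S : Subgroup (Matrix.SpecialLinearGroup (Fin 2) (ZMod p)))
    (h : uMat 1 ∈ S) (x : ZMod p) : uMat x ∈ S := by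
  have h1 : uMat x = uMat (1 : ZMod p) ^ x.val := by
    rw [uMat_pow, mul_one, ZMod.natCast_zmod_val]
  rw [h1]
  exact S.pow_mem h _

theorem lMat_mem_closure (S : Subgroup (Matrix.SpecialLinearGroup (Fin 2) (ZMod p)))
    {t : ZMod p} (ht : t ≠ 0) (h : lMat t ∈ S) (y : ZMod p) : lMat y ∈ S := by
  have h1 : lMat y = lMat t ^ (y / t).val := by
    rw [lMat_pow, ZMod.natCast_zmod_val, div_mul_cancel₀ _ ht]
  rw [h1]
  exact S.pow_mem h _

/-- The Bruhat-type factorisation of a matrix with nonzero lower-left entry. -/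
theorem eq_uMat_lMat_uMat (g : Matrix.SpecialLinearGroup (Fin 2) (ZMod p))
    (hg : (g : Matrix (Fin 2) (Fin 2) (ZMod p)) 1 0 ≠ 0) :
    g = uMat (((g : Matrix (Fin 2) (Fin 2) (ZMod p)) 0 0 - 1) /
          (g : Matrix (Fin 2) (Fin 2) (ZMod p)) 1 0)
        * lMat ((g : Matrix (Fin 2) (Fin 2) (ZMod p)) 1 0)
        * uMat (((g : Matrix (Fin 2) (Fin 2) (ZMod p)) 1 1 - 1) /
          (g : Matrix (Fin 2) (Fin 2) (ZMod p)) 1 0) := by
  have hdet : (g : Matrix (Fin 2) (Fin 2) (ZMod p)) 0 0 * (g : Matrix (Fin 2) (Fin 2) (ZMod p)) 1 1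
      - (g : Matrix (Fin 2) (Fin 2) (ZMod p)) 0 1 * (g : Matrix (Fin 2) (Fin 2) (ZMod p)) 1 0 = 1 := by
    have := g.2
    rw [Matrix.det_fin_two] at this
    exact this
  apply sl2_ext
  rw [Matrix.SpecialLinearGroup.coe_mul, Matrix.SpecialLinearGroup.coe_mul, uMat_val, uMat_val,
    lMat_val, Matrix.mul_fin_two, Matrix.mul_fin_two]
  conv_lhs => rw [sl2_eta g]
  generalize (g : Matrix (Fin 2) (Fin 2) (ZMod p)) 0 0 = α at *
  generalize (g : Matrix (Fin 2) (Fin 2) (ZMod p)) 0 1 = β at *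
  generalize (g : Matrix (Fin 2) (Fin 2) (ZMod p)) 1 0 = γ at *
  generalize (g : Matrix (Fin 2) (Fin 2) (ZMod p)) 1 1 = δ at *
  have hβ : β = (α * δ - 1) / γ := by
    field_simp
    linear_combination (-1 : ZMod p) * hdet
  subst hβ
  congr 1
  have e1 : (1 * 1 + (α - 1) / γ * γ) * 1 + (1 * 0 + (α - 1) / γ * 1) * 0 = α := by
    field_simp; ring
  have e2 : (1 * 1 + (α - 1) / γ * γ) * ((δ - 1) / γ) + (1 * 0 + (α - 1) / γ * 1) * 1
      = (α * δ - 1) / γ := by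
    field_simp; ring
  have e3 : (0 * 1 + 1 * γ) * 1 + (0 * 0 + 1 * 1) * 0 = γ := by ring
  have e4 : (0 * 1 + 1 * γ) * ((δ - 1) / γ) + (0 * 0 + 1 * 1) * 1 = δ := by
    field_simp; ring
  rw [e1, e2, e3, e4]

/-- `SL₂(𝔽_p)` is generated by `u 1` and `l t`, `t ≠ 0`. -/
theorem eq_top_of_uMat_lMat_mem (S : Subgroup (Matrix.SpecialLinearGroup (Fin 2) (ZMod p)))
    {t : ZMod p} (ht : t ≠ 0) (hu : uMat 1 ∈ S) (hl : lMat t ∈ S) : S = ⊤ := by
  have hU := uMat_mem_closure S hu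
  have hL := lMat_mem_closure S ht hl
  have key : ∀ g : Matrix.SpecialLinearGroup (Fin 2) (ZMod p),
      (g : Matrix (Fin 2) (Fin 2) (ZMod p)) 1 0 ≠ 0 → g ∈ S := by
    intro g hg
    rw [eq_uMat_lMat_uMat g hg]
    exact S.mul_mem (S.mul_mem (hU _) (hL _)) (hU _)
  rw [eq_top_iff]
  intro g _
  by_cases hg : (g : Matrix (Fin 2) (Fin 2) (ZMod p)) 1 0 = 0
  · have hα : (g : Matrix (Fin 2) (Fin 2) (ZMod p)) 0 0 ≠ 0 := by
      intro h0
      have := g.2
      rw [Matrix.det_fin_two, h0, hg] at this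
      simp at this
    have h1 : lMat 1 * g ∈ S := by
      apply key
      rw [Matrix.SpecialLinearGroup.coe_mul, lMat_val, sl2_eta g, Matrix.mul_fin_two]
      simp [hg, hα]
    have h2 : g = (lMat (1 : ZMod p))⁻¹ * (lMat 1 * g) := by group
    rw [h2]
    exact S.mul_mem (S.inv_mem (hL 1)) h1
  · exact key g hg

/-- Diagonal element. -/
def dMat (s : (ZMod p)ˣ) : Matrix.SpecialLinearGroup (Fin 2) (ZMod p) :=
  ⟨!![(s : ZMod p), 0; 0, ((s⁻¹ : (ZMod p)ˣ) : ZMod p)], by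
    rw [Matrix.det_fin_two_of, mul_zero, sub_zero, ← Units.val_mul, mul_inv_cancel, Units.val_one]⟩

@[simp] theorem dMat_val (s : (ZMod p)ˣ) :
    ((dMat s : Matrix.SpecialLinearGroup (Fin 2) (ZMod p)) : Matrix (Fin 2) (Fin 2) (ZMod p))
      = !![(s : ZMod p), 0; 0, ((s⁻¹ : (ZMod p)ˣ) : ZMod p)] := rfl

theorem dMat_conj (s : (ZMod p)ˣ) (x : ZMod p) :
    dMat s * uMat x * (dMat s)⁻¹ = uMat ((s : ZMod p) * (s : ZMod p) * x) := by
  rw [mul_inv_eq_iff_eq_mul]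
  apply sl2_ext
  rw [Matrix.SpecialLinearGroup.coe_mul, Matrix.SpecialLinearGroup.coe_mul, uMat_val, uMat_val,
    dMat_val, Matrix.mul_fin_two, Matrix.mul_fin_two]
  congr 1
  have e : (s : ZMod p) * (s : ZMod p) * x * ((s⁻¹ : (ZMod p)ˣ) : ZMod p) = (s : ZMod p) * x := by
    have : (s : ZMod p) * ((s⁻¹ : (ZMod p)ˣ) : ZMod p) = 1 := by
      rw [← Units.val_mul, mul_inv_cancel, Units.val_one]
    linear_combination ((s : ZMod p) * x) * this
  rw [e]
  simp only [mul_one, mul_zero, zero_mul, add_zero, zero_add, one_mul]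

/-- For `p ≠ 2, 3`, every normal subgroup of `SL₂(𝔽_p)` containing the commutator subgroup
contains `u 1`. -/
theorem uMat_one_mem_of_commutator_le (hp2 : p ≠ 2) (hp3 : p ≠ 3)
    (N : Subgroup (Matrix.SpecialLinearGroup (Fin 2) (ZMod p)))
    (hN : ⁅(⊤ : Subgroup (Matrix.SpecialLinearGroup (Fin 2) (ZMod p))), ⊤⁆ ≤ N) :
    uMat (1 : ZMod p) ∈ N := by
  have hpp : p.Prime := Fact.out
  have h2 : (2 : ZMod p) ≠ 0 := by
    intro h
    have h' : (p : ℕ) ∣ 2 := (ZMod.natCast_eq_zero_iff 2 p).mp (by exact_mod_cast h)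
    have := (Nat.prime_dvd_prime_iff_eq hpp Nat.prime_two).mp h'
    exact hp2 this
  have h3 : (3 : ZMod p) ≠ 0 := by
    intro h
    have h' : (p : ℕ) ∣ 3 := (ZMod.natCast_eq_zero_iff 3 p).mp (by exact_mod_cast h)
    have := (Nat.prime_dvd_prime_iff_eq hpp Nat.prime_three).mp h'
    exact hp3 this
  set s : (ZMod p)ˣ := Units.mk0 2 h2 with hs
  have hc : ⁅dMat s, uMat (1 : ZMod p)⁆ ∈ N :=
    hN (Subgroup.commutator_mem_commutator (Subgroup.mem_top _) (Subgroup.mem_top _))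
  have hc' : ⁅dMat s, uMat (1 : ZMod p)⁆ = uMat 3 := by
    rw [commutatorElement_def, dMat_conj, uMat_inv, uMat_mul]
    congr 1
    simp only [hs, Units.val_mk0]
    ring
  rw [hc'] at hc
  have h4 : uMat (1 : ZMod p) = uMat 3 ^ ((3 : ZMod p)⁻¹).val := by
    rw [uMat_pow, ZMod.natCast_zmod_val, inv_mul_cancel₀ h3]
  rw [h4]
  exact N.pow_mem hc _

end Cfsg.Agent.Lib.Lead.Offender
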