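import Mathlib
import Cfsg.Agent.Lib.Lead.Offender.SL2

/-!
Lead library: a group generated by two "opposite transvections" on a plane over `𝔽_p` and acting
faithfully is `SL₂(𝔽_p)`.
-/

set_option autoImplicit false
set_option linter.unusedSectionVars false
set_option linter.style.haveILetI false

namespace Cfsg.Agent.Lib.Lead.Offender

open Matrix

/-- Linear version. -/
theorem sl2_of_linear {p : ℕ} [Fact p.Prime] {E M : Type*} [Group E] [AddCommGroup M]
    [Module (ZMod p) M] (B : Module.Basis (Fin 2) (ZMod p) M) (ρ : E →* Module.End (ZMod p) M)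
    (hρ : Function.Injective ρ) (a b : E) (hgen : Subgroup.closure {a, b} = ⊤) (t : ZMod p)
    (ht : t ≠ 0) (ha : LinearMap.toMatrix B B (ρ a) = !![1, 1; 0, 1])
    (hb : LinearMap.toMatrix B B (ρ b) = !![1, 0; t, 1]) :
    ∃ φ : E ≃* Matrix.SpecialLinearGroup (Fin 2) (ZMod p), φ a = uMat 1 ∧ φ b = lMat t := by
  -- the matrix representation
  let ψ : E →* Matrix (Fin 2) (Fin 2) (ZMod p) :=
    { toFun := fun e => LinearMap.toMatrix B B (ρ e)
      map_one' := by rw [map_one, LinearMap.toMatrix_one]
      map_mul' := fun x y => by rw [map_mul, LinearMap.toMatrix_mul] }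
  have hψ : ∀ e, ψ e = LinearMap.toMatrix B B (ρ e) := fun _ => rfl
  have hdet : ∀ e : E, (ψ e).det = 1 := by
    intro e
    have he : e ∈ Subgroup.closure ({a, b} : Set E) := by rw [hgen]; trivial
    induction he using Subgroup.closure_induction with
    | mem x hx =>
      rcases hx with rfl | hx
      · rw [hψ, ha, Matrix.det_fin_two_of]; ring
      · rw [Set.mem_singleton_iff] at hx
        subst hx
        rw [hψ, hb, Matrix.det_fin_two_of]; ring
    | one => rw [map_one, Matrix.det_one]
    | mul x y _ _ hx hy => rw [map_mul, Matrix.det_mul, hx, hy, one_mul]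
    | inv x _ hx =>
      have h1 : ψ x⁻¹ * ψ x = 1 := by rw [← map_mul, inv_mul_cancel, map_one]
      have h2 := congrArg Matrix.det h1
      rw [Matrix.det_mul, hx, mul_one, Matrix.det_one] at h2
      exact h2
  let φ₀ : E →* Matrix.SpecialLinearGroup (Fin 2) (ZMod p) :=
    { toFun := fun e => ⟨ψ e, hdet e⟩
      map_one' := by apply Subtype.ext; exact map_one ψ
      map_mul' := fun x y => by apply Subtype.ext; exact map_mul ψ x y }
  have hφ₀ : ∀ e, ((φ₀ e : Matrix.SpecialLinearGroup (Fin 2) (ZMod p)) :
      Matrix (Fin 2) (Fin 2) (ZMod p)) = ψ e := fun _ => rfl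
  have hφa : φ₀ a = uMat 1 := by
    apply sl2_ext
    rw [hφ₀, hψ, ha, uMat_val]
  have hφb : φ₀ b = lMat t := by
    apply sl2_ext
    rw [hφ₀, hψ, hb, lMat_val]
  have hinj : Function.Injective φ₀ := by
    rw [injective_iff_map_eq_one]
    intro e he
    have h1 : ψ e = 1 := by
      have := congrArg Subtype.val he
      exact this
    rw [hψ, ← LinearMap.toMatrix_one B] at h1
    have h2 : ρ e = 1 := (LinearMap.toMatrix B B).injective h1
    apply hρ
    rw [h2, map_one]
  have hsurj : Function.Surjective φ₀ := by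
    rw [← MonoidHom.range_eq_top]
    apply eq_top_of_uMat_lMat_mem _ ht
    · exact ⟨a, hφa⟩
    · exact ⟨b, hφb⟩
  exact ⟨MulEquiv.ofBijective φ₀ ⟨hinj, hsurj⟩, hφa, hφb⟩

/-- Group version: `W` an elementary abelian group of order `p²`, `E` acting faithfully on it,
generated by `a`, `b` acting as opposite transvections with respect to `w₁`, `w₂`. -/
theorem sl2_of_transvection_pair {p : ℕ} [Fact p.Prime] {E W : Type*} [Group E] [CommGroup W]
    [Finite W] (hexp : ∀ w : W, w ^ p = 1)
    (hcard : Nat.card W = p ^ 2) (ρ : E →* MulAut W) (hρ : Function.Injective ρ) (a b : E)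
    (hgen : Subgroup.closure {a, b} = ⊤) (w₁ w₂ : W) (h1 : w₁ ≠ 1) (h2 : w₂ ≠ 1) (t : ℕ)
    (ht : ¬ p ∣ t) (ha1 : ρ a w₁ = w₁) (ha2 : ρ a w₂ = w₁ * w₂) (hb1 : ρ b w₁ = w₁ * w₂ ^ t)
    (hb2 : ρ b w₂ = w₂) :
    ∃ φ : E ≃* Matrix.SpecialLinearGroup (Fin 2) (ZMod p),
      φ a = uMat 1 ∧ φ b = lMat (t : ZMod p) := by
  have hpp : p.Prime := Fact.out
  obtain ⟨inst⟩ : Nonempty (Module (ZMod p) (Additive W)) := ⟨AddCommGroup.zmodModule (n := p) (by
    intro x
    show Additive.ofMul (x.toMul ^ p) = 0
    rw [hexp]; rfl)⟩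
  have hsmul : ∀ (n : ℕ) (w : W), (n : ZMod p) • Additive.ofMul w = Additive.ofMul (w ^ n) := by
    intro n w
    rw [Nat.cast_smul_eq_nsmul]; rfl
  set x : Additive W := Additive.ofMul w₁ with hx
  set y : Additive W := Additive.ofMul w₂ with hy
  have hx0 : x ≠ 0 := fun h =>
    h1 (Additive.ofMul.injective (show Additive.ofMul w₁ = Additive.ofMul 1 from h))
  have hy0 : y ≠ 0 := fun h =>
    h2 (Additive.ofMul.injective (show Additive.ofMul w₂ = Additive.ofMul 1 from h))
  have htz : (t : ZMod p) ≠ 0 := by
    rw [Ne, ZMod.natCast_eq_zero_iff]; exact ht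
  -- the linear action
  have key : ∀ (e : E) (v : Additive W),
      ((MonoidHom.toAdditive (ρ e).toMonoidHom).toZModLinearMap p :
        Additive W →ₗ[ZMod p] Additive W) v
        = Additive.ofMul (ρ e v.toMul) := fun _ _ => rfl
  let L : E →* Module.End (ZMod p) (Additive W) :=
    { toFun := fun e => (MonoidHom.toAdditive (ρ e).toMonoidHom).toZModLinearMap p
      map_one' := by
        apply LinearMap.ext
        intro v
        rw [key, map_one]; rfl
      map_mul' := fun e f => by
        apply LinearMap.ext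
        intro v
        rw [key, map_mul, Module.End.mul_apply, key, key]; rfl }
  have hL : ∀ (e : E) (w : W), L e (Additive.ofMul w) = Additive.ofMul (ρ e w) := fun _ _ => rfl
  have hLinj : Function.Injective L := by
    intro e f hef
    apply hρ
    ext w
    have := congrArg (fun g : Module.End (ZMod p) (Additive W) => g (Additive.ofMul w)) hef
    simp only [hL] at this
    exact this
  have hLax : L a x = x := by rw [hx, hL, ha1]
  have hLay : L a y = x + y := by rw [hy, hL, ha2]; rfl
  have hLbx : L b x = x + (t : ZMod p) • y := by rw [hx, hL, hb1, hy, hsmul]; rfl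
  have hLby : L b y = y := by rw [hy, hL, hb2]
  -- linear independence
  have hli : LinearIndependent (ZMod p) ![x, y] := by
    rw [LinearIndependent.pair_iff' hx0]
    intro c hc
    have h3 : L b (c • x) = L b y := by rw [hc]
    rw [map_smul, hLbx, hLby, smul_add, hc, smul_smul] at h3
    have h4 : (c * (t : ZMod p)) • y = 0 := by
      have := h3
      rwa [add_eq_left] at this
    rw [smul_eq_zero] at h4
    rcases h4 with h4 | h4
    · rcases mul_eq_zero.mp h4 with h5 | h5
      · rw [h5, zero_smul] at hc
        exact hy0 hc.symm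
      · exact htz h5
    · exact hy0 h4
  have hfr : Module.finrank (ZMod p) (Additive W) = 2 := by
    have h3 := Module.natCard_eq_pow_finrank (K := ZMod p) (V := Additive W)
    rw [Nat.card_zmod] at h3
    have h4 : Nat.card (Additive W) = p ^ 2 := hcard
    rw [h4] at h3
    exact (Nat.pow_right_injective hpp.two_le h3).symm
  let B : Module.Basis (Fin 2) (ZMod p) (Additive W) :=
    basisOfLinearIndependentOfCardEqFinrank hli (by rw [hfr]; rfl)
  have hB0 : B 0 = x := by
    show (basisOfLinearIndependentOfCardEqFinrank hli _) 0 = x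
    rw [coe_basisOfLinearIndependentOfCardEqFinrank]; rfl
  have hB1 : B 1 = y := by
    show (basisOfLinearIndependentOfCardEqFinrank hli _) 1 = y
    rw [coe_basisOfLinearIndependentOfCardEqFinrank]; rfl
  have hMa : LinearMap.toMatrix B B (L a) = !![1, 1; 0, 1] := by
    ext i j
    rw [LinearMap.toMatrix_apply]
    fin_cases j
    · simp only [Fin.zero_eta]
      rw [hB0, hLax, ← hB0, Module.Basis.repr_self]
      fin_cases i <;> simp
    · simp only [Fin.mk_one]
      rw [hB1, hLay, ← hB0, ← hB1, map_add, Module.Basis.repr_self, Module.Basis.repr_self]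
      fin_cases i <;> simp
  have hMb : LinearMap.toMatrix B B (L b) = !![1, 0; (t : ZMod p), 1] := by
    ext i j
    rw [LinearMap.toMatrix_apply]
    fin_cases j
    · simp only [Fin.zero_eta]
      rw [hB0, hLbx, ← hB0, ← hB1, map_add, map_smul, Module.Basis.repr_self,
        Module.Basis.repr_self]
      fin_cases i <;> simp
    · simp only [Fin.mk_one]
      rw [hB1, hLby, ← hB1, Module.Basis.repr_self]
      fin_cases i <;> simp
  exact sl2_of_linear B L hLinj a b hgen (t : ZMod p) htz hMa hMb

end Cfsg.Agent.Lib.Lead.Offender
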