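import Mathlib
import Cfsg.Agent.Lib.Lead.Offender.TransPair

/-!
Lead library: in-group version of `sl2_of_transvection_pair`.
-/

set_option autoImplicit false

namespace Cfsg.Agent.Lib.Lead.Offender

variable {G : Type*} [Group G]

open scoped IsMulCommutative in
/-- In-group version: `E = ⟨a, b⟩` normalizes the elementary abelian `W` of order `p²`, acts
faithfully, and `a`, `b` act as opposite transvections with respect to `w₁`, `w₂`. -/
theorem sl2_of_transvection_pair_subgroup [Finite G] {p : ℕ} [Fact p.Prime] (W E : Subgroup G)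
    (hWc : ∀ x ∈ W, ∀ y ∈ W, x * y = y * x) (hexp : ∀ w ∈ W, w ^ p = 1)
    (hcard : Nat.card W = p ^ 2) (hEW : E ≤ Subgroup.normalizer (W : Set G))
    (hfaith : E ⊓ Subgroup.centralizer (W : Set G) = ⊥) (a b : G) (haE : a ∈ E) (hbE : b ∈ E)
    (hgen : E = Subgroup.zpowers a ⊔ Subgroup.zpowers b) (w₁ w₂ : G) (hw₁ : w₁ ∈ W)
    (hw₂ : w₂ ∈ W) (h1 : w₁ ≠ 1) (h2 : w₂ ≠ 1) (t : ℕ) (ht : ¬ p ∣ t)
    (ha1 : a * w₁ * a⁻¹ = w₁) (ha2 : a * w₂ * a⁻¹ = w₁ * w₂)
    (hb1 : b * w₁ * b⁻¹ = w₁ * w₂ ^ t) (hb2 : b * w₂ * b⁻¹ = w₂) :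
    ∃ φ : ↥E ≃* Matrix.SpecialLinearGroup (Fin 2) (ZMod p),
      φ ⟨a, haE⟩ = uMat 1 ∧ φ ⟨b, hbE⟩ = lMat (t : ZMod p) := by
  have : IsMulCommutative ↥W := ⟨⟨fun x y => Subtype.ext (hWc x x.2 y y.2)⟩⟩
  let ρ : ↥E →* MulAut ↥W := (Subgroup.normalizerMonoidHom W).comp (Subgroup.inclusion hEW)
  have hρ : ∀ (e : ↥E) (w : ↥W), ((ρ e w : ↥W) : G) = (e : G) * (w : G) * (e : G)⁻¹ :=
    fun _ _ => rfl
  have hρinj : Function.Injective ρ := by
    rw [injective_iff_map_eq_one]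
    intro e he
    have h3 : (e : G) ∈ E ⊓ Subgroup.centralizer (W : Set G) := by
      refine ⟨e.2, ?_⟩
      show (e : G) ∈ Subgroup.centralizer (W : Set G)
      rw [Subgroup.mem_centralizer_iff]
      intro w hw
      have h4 := hρ e ⟨w, hw⟩
      rw [he] at h4
      have h5 : w = (e : G) * w * (e : G)⁻¹ := h4
      calc w * (e : G) = ((e : G) * w * (e : G)⁻¹) * (e : G) := by rw [← h5]
        _ = (e : G) * w := by group
    rw [hfaith, Subgroup.mem_bot] at h3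
    exact Subtype.ext h3
  have hgen' : Subgroup.closure ({⟨a, haE⟩, ⟨b, hbE⟩} : Set ↥E) = ⊤ := by
    apply Subgroup.map_injective E.subtype_injective
    rw [MonoidHom.map_closure, ← MonoidHom.range_eq_map, Subgroup.range_subtype]
    have h3 : (E.subtype '' ({⟨a, haE⟩, ⟨b, hbE⟩} : Set ↥E)) = {a, b} := by
      rw [Set.image_insert_eq, Set.image_singleton]; rfl
    rw [h3, hgen, Set.insert_eq, Subgroup.closure_union, Subgroup.zpowers_eq_closure,
      Subgroup.zpowers_eq_closure]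
  refine sl2_of_transvection_pair (p := p) (W := ↥W) (E := ↥E)
    (fun w => Subtype.ext (by rw [Subgroup.coe_pow, Subgroup.coe_one]; exact hexp w w.2)) hcard ρ
    hρinj ⟨a, haE⟩ ⟨b, hbE⟩ hgen' ⟨w₁, hw₁⟩ ⟨w₂, hw₂⟩
    (fun h => h1 (congrArg Subtype.val h)) (fun h => h2 (congrArg Subtype.val h)) t ht ?_ ?_ ?_ ?_
  · apply Subtype.ext; rw [hρ]; exact ha1
  · apply Subtype.ext; rw [hρ]; exact ha2
  · apply Subtype.ext; rw [hρ]; exact hb1
  · apply Subtype.ext; rw [hρ]; exact hb2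

end Cfsg.Agent.Lib.Lead.Offender
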